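import Groth.Agent.Lib.Chev28.FibreNorm
import Mathlib.RingTheory.Valuation.LocalSubring

/-!
# Adding high powers to keep a projection finite
-/

set_option autoImplicit false
universe u

open MvPolynomial

namespace GrothLib.FiniteProj

/-- An element which is integral modulo every prime ideal is integral. -/
theorem isIntegralElem_of_forall_prime {A R : Type u} [CommRing A] [CommRing R] (f : A →+* R) (z : R)
    (h : ∀ P : Ideal R, P.IsPrime → ((Ideal.Quotient.mk P).comp f).IsIntegralElem (Ideal.Quotient.mk P z)) :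
    f.IsIntegralElem z := by
  by_contra hne
  let S : Submonoid R :=
    { carrier := {y | ∃ q : Polynomial A, q.Monic ∧ q.eval₂ f z = y}
      one_mem' := ⟨1, Polynomial.monic_one, Polynomial.eval₂_one _ _⟩
      mul_mem' := by
        rintro _ _ ⟨q, hq, rfl⟩ ⟨q', hq', rfl⟩
        exact ⟨q * q', hq.mul hq', Polynomial.eval₂_mul _ _⟩ }
  have hdisj : Disjoint ((⊥ : Ideal R) : Set R) (S : Set R) := by
    rw [Set.disjoint_left]
    rintro y hy ⟨q, hq, hqy⟩
    exact hne ⟨q, hq, hqy.trans (Ideal.mem_bot.1 hy)⟩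
  obtain ⟨P, hP, -, hPS⟩ := Ideal.exists_le_prime_disjoint _ S hdisj
  obtain ⟨q, hq, hq0⟩ := h P hP
  rw [← Polynomial.hom_eval₂, Ideal.Quotient.eq_zero_iff_mem] at hq0
  exact Set.disjoint_left.1 hPS hq0 ⟨q, hq, rfl⟩

/-- An element of a field in every valuation subring containing the image is integral. -/
theorem isIntegralElem_of_forall_valuationSubring {A L : Type u} [CommRing A] [Field L] (f : A →+* L) (w : L)
    (h : ∀ V : ValuationSubring L, (∀ a, f a ∈ V) → w ∈ V) : f.IsIntegralElem w := by
  have hw : w ∈ (⨅ V : {V : ValuationSubring L // (Set.range f) ⊆ V.toSubring}, V.1.toSubring) :=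
    Subring.mem_iInf.2 fun V => h V.1 fun a => V.2 ⟨a, rfl⟩
  rw [iInf_valuationSubring_superset] at hw
  have h1 : IsIntegral (Subring.closure (Set.range f)) w := hw
  obtain ⟨p, hp, hp0⟩ := h1
  have hcl : Subring.closure (Set.range f) = f.range := by
    rw [← RingHom.coe_range, Subring.closure_eq]
  have hlift : p.map (algebraMap _ L) ∈ Polynomial.lifts f := by
    refine (Polynomial.lifts_iff_coeff_lifts _).2 fun n => ?_
    rw [Polynomial.coeff_map]
    obtain ⟨a, ha⟩ : (p.coeff n : L) ∈ f.range := hcl ▸ (p.coeff n).2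
    exact ⟨a, ha⟩
  obtain ⟨q, hq, -, hqm⟩ := Polynomial.lifts_and_degree_eq_and_monic hlift (hp.map _)
  exact ⟨q, hqm, by rw [Polynomial.eval₂_eq_eval_map, hq, ← Polynomial.eval₂_eq_eval_map]; exact hp0⟩

/-- Points of `k[z] → k[x + c zᴹ]`: if `x` is integral over `k[z]` with coefficients of degree at most `D < M`,
then `z` is integral. -/
theorem isIntegralElem_of_pow_add {k R : Type u} [Field k] [CommRing R] [Algebra k R] {d : ℕ}
    (z x : Fin d → R) (p : Fin d → Polynomial (MvPolynomial (Fin d) k)) (hp : ∀ i, (p i).Monic)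
    (hp0 : ∀ i, (p i).eval₂ (aeval z : MvPolynomial (Fin d) k →ₐ[k] R).toRingHom (x i) = 0)
    (D : ℕ) (hD : ∀ i n, ((p i).coeff n).totalDegree ≤ D) (M : ℕ) (hM : D < M) (c : k) (hc : c ≠ 0) (i : Fin d) :
    (aeval (fun j => x j + c • z j ^ M) : MvPolynomial (Fin d) k →ₐ[k] R).toRingHom.IsIntegralElem (z i) := by
  classical
  refine isIntegralElem_of_forall_prime _ _ fun P hP => ?_
  let g : R →+* FractionRing (R ⧸ P) := (algebraMap (R ⧸ P) (FractionRing (R ⧸ P))).comp (Ideal.Quotient.mk P)
  suffices h : (g.comp (aeval (fun j => x j + c • z j ^ M) : MvPolynomial (Fin d) k →ₐ[k] R).toRingHom).IsIntegralElem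
      (g (z i)) by
    obtain ⟨q, hq, hq0⟩ := h
    refine ⟨q, hq, IsFractionRing.injective (R ⧸ P) (FractionRing (R ⧸ P)) ?_⟩
    rw [map_zero, Polynomial.hom_eval₂]
    exact hq0
  refine isIntegralElem_of_forall_valuationSubring _ _ fun V hV => ?_
  have hconst : ∀ a : k, g (algebraMap k R a) ∈ V := fun a => by simpa using hV (MvPolynomial.C a)
  have hf : ∀ j, g (x j + c • z j ^ M) ∈ V := fun j => by simpa using hV (MvPolynomial.X j)
  by_contra hzi
  obtain ⟨m, -, hmax⟩ := Finset.exists_max_image Finset.univ (fun j => V.valuation (g (z j))) ⟨i, Finset.mem_univ i⟩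
  have hρ : 1 < V.valuation (g (z m)) :=
    (lt_of_not_ge fun h => hzi ((V.valuation_le_one_iff _).1 h)).trans_le (hmax i (Finset.mem_univ i))
  have hk : ∀ a : k, V.valuation (g (algebraMap k R a)) ≤ 1 := fun a => (V.valuation_le_one_iff _).2 (hconst a)
  have hz : ∀ a : MvPolynomial (Fin d) k, a.totalDegree ≤ D →
      V.valuation (g (aeval z a)) ≤ V.valuation (g (z m)) ^ D := by
    intro a ha
    conv_lhs => rw [a.as_sum, map_sum, map_sum]
    refine V.valuation.map_sum_le fun s hs => ?_
    rw [aeval_monomial, map_mul, map_mul, Finsupp.prod, map_prod, map_prod]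
    refine (mul_le_of_le_one_left' (hk _)).trans ?_
    calc ∏ j ∈ s.support, V.valuation (g (z j ^ s j)) ≤ ∏ j ∈ s.support, V.valuation (g (z m)) ^ s j := by
          refine Finset.prod_le_prod' fun j _ => ?_
          rw [map_pow, map_pow]
          exact pow_le_pow_left' (hmax j (Finset.mem_univ j)) _
      _ = V.valuation (g (z m)) ^ (∑ j ∈ s.support, s j) := Finset.prod_pow_eq_pow_sum _ _ _
      _ ≤ V.valuation (g (z m)) ^ D :=
          pow_le_pow_right' hρ.le ((MvPolynomial.le_totalDegree hs).trans ha)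
  have hx : V.valuation (g (x m)) ≤ V.valuation (g (z m)) ^ D := by
    by_contra hlt
    push Not at hlt
    have h1 : 1 ≤ V.valuation (g (x m)) := (one_le_pow_of_one_le' hρ.le D).trans hlt.le
    have hg := congrArg g (hp0 m)
    rw [map_zero, Polynomial.hom_eval₂, (hp m).as_sum, Polynomial.eval₂_add, Polynomial.eval₂_X_pow,
      Polynomial.eval₂_finsetSum, add_eq_zero_iff_eq_neg] at hg
    refine absurd (congrArg V.valuation hg) (ne_of_gt ?_)
    rw [Valuation.map_neg, map_pow]
    refine V.valuation.map_sum_lt' (pow_pos (lt_of_lt_of_le zero_lt_one h1) _) fun n hn => ?_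
    rw [Polynomial.eval₂_mul, Polynomial.eval₂_C, Polynomial.eval₂_X_pow, map_mul, map_pow]
    calc V.valuation (g (aeval z ((p m).coeff n))) * V.valuation (g (x m)) ^ n
        < V.valuation (g (x m)) * V.valuation (g (x m)) ^ n :=
          mul_lt_mul_of_pos_right ((hz _ (hD m n)).trans_lt hlt) (pow_pos (lt_of_lt_of_le zero_lt_one h1) _)
      _ = V.valuation (g (x m)) ^ (n + 1) := (pow_succ' _ _).symm
      _ ≤ V.valuation (g (x m)) ^ (p m).natDegree := pow_le_pow_right' h1 (Finset.mem_range.1 hn)
  have hcz : V.valuation (g (c • z m ^ M)) = V.valuation (g (z m)) ^ M := by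
    rw [Algebra.smul_def, map_mul, map_mul, map_pow, map_pow]
    suffices V.valuation (g (algebraMap k R c)) = 1 by rw [this, one_mul]
    refine le_antisymm (hk c) ?_
    have h1 : V.valuation (g (algebraMap k R c)) * V.valuation (g (algebraMap k R c⁻¹)) = 1 := by
      rw [← map_mul, ← map_mul, ← map_mul, mul_inv_cancel₀ hc, map_one, map_one, map_one]
    exact h1.ge.trans (mul_le_of_le_one_right' (hk _))
  have hlt : V.valuation (g (x m)) < V.valuation (g (c • z m ^ M)) :=
    hcz ▸ hx.trans_lt (pow_lt_pow_right₀ hρ hM)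
  have := (V.valuation_le_one_iff _).2 (hf m)
  rw [map_add, add_comm, V.valuation.map_add_eq_of_lt_left hlt, hcz] at this
  exact (not_le.2 (one_lt_pow₀ hρ (by omega))) this

/-- `x + c zᴹ` stays finite for large `M`. -/
theorem exists_finite_pow_add {k R : Type u} [Field k] [CommRing R] [Algebra k R] {d : ℕ} (z : Fin d → R)
    (hz : (aeval z : MvPolynomial (Fin d) k →ₐ[k] R).toRingHom.Finite) (x : Fin d → R) :
    ∃ D, ∀ M, D < M → ∀ c : k, c ≠ 0 →
      (aeval (fun j => x j + c • z j ^ M) : MvPolynomial (Fin d) k →ₐ[k] R).toRingHom.Finite := by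
  classical
  choose p hp hp0 using fun i => hz.to_isIntegral (x i)
  refine ⟨Finset.univ.sup fun i => (p i).support.sup fun n => ((p i).coeff n).totalDegree, fun M hM c hc => ?_⟩
  have hD : ∀ i n, ((p i).coeff n).totalDegree ≤
      Finset.univ.sup fun i => (p i).support.sup fun n => ((p i).coeff n).totalDegree := by
    intro i n
    by_cases hn : n ∈ (p i).support
    · exact (Finset.le_sup (f := fun n => ((p i).coeff n).totalDegree) hn).trans
        (Finset.le_sup (f := fun i => (p i).support.sup fun n => ((p i).coeff n).totalDegree) (Finset.mem_univ i))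
    · rw [Polynomial.notMem_support_iff.1 hn, totalDegree_zero]; exact Nat.zero_le _
  haveI hft : Algebra.FiniteType k R := by
    refine RingHom.finiteType_algebraMap.1 ?_
    rw [← (aeval z : MvPolynomial (Fin d) k →ₐ[k] R).comp_algebraMap]
    exact hz.finiteType.comp ((RingHom.finiteType_algebraMap (A := k) (B := MvPolynomial (Fin d) k)).2 inferInstance)
  refine RingHom.IsIntegral.to_finite (fun y => ?_) (RingHom.FiniteType.of_comp_finiteType
    (f := algebraMap k (MvPolynomial (Fin d) k))
    ((aeval (fun j => x j + c • z j ^ M) : MvPolynomial (Fin d) k →ₐ[k] R).comp_algebraMap.symm ▸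
      (RingHom.finiteType_algebraMap (A := k) (B := R)).2 hft))
  letI := (aeval (fun j => x j + c • z j ^ M) : MvPolynomial (Fin d) k →ₐ[k] R).toRingHom.toAlgebra
  haveI : IsScalarTower k (MvPolynomial (Fin d) k) R := .of_algebraMap_eq fun a => (AlgHom.commutes _ a).symm
  let T : Subalgebra k R := (integralClosure (MvPolynomial (Fin d) k) R).restrictScalars k
  have hzT : ∀ i, z i ∈ T := fun i => isIntegralElem_of_pow_add z x p hp hp0 _ hD M hM c hc i
  have hrange : (aeval z : MvPolynomial (Fin d) k →ₐ[k] R).range ≤ T := by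
    rw [← Algebra.adjoin_range_eq_range_aeval, Algebra.adjoin_le_iff]
    rintro _ ⟨i, rfl⟩; exact hzT i
  obtain ⟨q, hq, hq0⟩ := hz.to_isIntegral y
  show IsIntegral (MvPolynomial (Fin d) k) y
  have hy : IsIntegral (integralClosure (MvPolynomial (Fin d) k) R) y := by
    let ψ : MvPolynomial (Fin d) k →+* integralClosure (MvPolynomial (Fin d) k) R :=
      (aeval z : MvPolynomial (Fin d) k →ₐ[k] R).toRingHom.codRestrict _ fun a => hrange ⟨a, rfl⟩
    exact ⟨q.map ψ, hq.map _, by rw [Polynomial.eval₂_map]; exact hq0⟩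
  exact isIntegral_trans y hy

end GrothLib.FiniteProj
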